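import Cfsg.Agent.Lib.PresCert.Range
import Cfsg.Agent.Lib.ThreeTransp.SolvLocal.Cert.F4LocalPart0

/-!
The certificate is valid.
-/

namespace CfsgLib.ThreeTransp.SolvLocal.Cert.F4Local

open CfsgLib.PresCert

theorem facts_ok : cert.okFacts 0 justs = true := by decide +kernel

theorem justs_length : justs.length = cert.nfact := by decide +kernel

theorem labs_ok : ((List.range cert.nfact).all fun i => Nat.ble (cert.fLab i) cert.g) = true := by
  decide +kernel

theorem valid : Cert.Valid cert justs where
  facts := facts_ok
  len := justs_length
  labs := labs_ok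
  slots := fun c hc => (Cert.slotsOK_of_range slots_0) c (Nat.zero_le c) hc
  pos := (by decide +kernel : 0 < cert.n)

end CfsgLib.ThreeTransp.SolvLocal.Cert.F4Local
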