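import Cfsg.Agent.Lib.PresCert.Check

/-!
Coset table certificate (generated data).
-/

namespace CfsgLib.ThreeTransp.SolvLocal.Cert.F4Local

open CfsgLib.PresCert

noncomputable def tab : BTree := (.node (.node (.leaf 0x10001000008001006400090000500081a400080000400201e4000c00006000001000070000100000100010800080000010000d80007001004400078000400081640006800030000010000e80007000001000110000800000100005800010000010000b00006001002400060000300081040005000020000000000f000080000000000c800070000000000a0000600000100004000010010004000480002000001000030000000000000008800050000000000700004000000000058000300000000004000020010084000380001000000000030000100000880002800000000068000200000000004800018000000000280001000000000008000080000) (.leaf 0x1000178000800101c4001a0000b00101a400198000b001016400190000b001010400188000b001008400180000b000001000148000700101c400170000a)) (.node (.leaf 0x101a400168000a001016400160000a001010400158000a001008400150000a000001000118000600101c400140000900101a4001380009001016400130000900101040012800090010084001200009000000000178000b0000010000f000020010184001100003001014400108000400100e40010000050010064000f80008000000000148000a00201e4000e800030000010000c800020010124000e0000500100c4000d800040010044000d0000700000000011800090000010000c0000400181e4000b800050000010000a0000200100a4000b000030010024000a8000600081c400098000500000100008800010000010000b800060000010000e00007)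 (.leaf 0x0)))

noncomputable def par : BTree := (.leaf 0x50000800000000005000070000000000500006000000000040000200000000003000020000000000200002000000000040000100000000003000010000000000200001000000000010000100000000005000000000000000000000)

noncomputable def fact : BTree := (.leaf 0x0)

/-- the certificate -/
noncomputable def cert : Cert where
  n := 12
  v := 0
  g := 6
  inv := [0, 1, 2, 3, 4, 5]
  rels := [[0, 1, 0, 1], [0, 2, 0, 2], [0, 3, 0, 3], [0, 4, 0, 4], [0, 5, 0, 5], [1, 2, 1, 2], [1, 3, 1, 3], [1, 4, 1, 4], [1, 5, 1, 5, 1, 5], [2, 3, 2, 3], [2, 4, 2, 4], [2, 5, 2, 5, 2, 5], [3, 4, 3, 4], [3, 5, 3, 5, 3, 5], [4, 5, 4, 5, 4, 5], [0, 1, 2, 3, 4]]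
  subs := [[0], [1], [2], [3], [4]]
  tab := tab
  par := par
  fact := fact
  nfact := 0

/-- justifications -/
noncomputable def justs : List Cert.Just := []

end CfsgLib.ThreeTransp.SolvLocal.Cert.F4Local
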