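import Cfsg.Agent.Lib.PresCert.Check

/-!
Coset table certificate (generated data).
-/

namespace CfsgLib.ThreeTransp.SolvLocal.Cert.F5Swap

open CfsgLib.PresCert

noncomputable def tab : BTree := (.leaf 0xc8000380000000080c00248000000000a800030000000000880002800000000068000200000000004800018000000000280001000000000008000080000)

noncomputable def par : BTree := (.leaf 0x500013000000000010000f000000000010000a000000000030000b0000000000300009000000000040000a000000000030000d00000000001000090000000000100008000000000050000500000000005000070000000000500004000000000050000300000000003000020000000000400002000000000030000400000000002000020000000000200001000000000000000100000000006000000000000000000000)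

noncomputable def fact : BTree := (.node (.node (.leaf 0x270000c20000c000260000c100008000250000b40000b000240000b500005000230000a30000a000220000a500007000210000920000900020000080000090001f000095000040001e000086000080001d000082000080001c000085000030001b000034000070001a0000710000700019000073000020001800006300003000170000640000200016000014000050001500005300004000140000300000400013000042000020001200003600003000110000310000300010000032000010000f000027000020000e000025000020000d000021000020000c000020000010000b000017000010000a0000150000100009000011000010000800001600000) (.leaf 0x4800000600000)) (.node (.leaf 0x4700001800000000460000180000000045000088000010004400008800001000430000e800005000420000e800005000410000f80000b000400000b80000f0003f0001180000f0003e0001180000f0003d000117000110003c000111000140003b000145000130003a0001310000f000390000f70000f0003800012500012000370001210000a00036000105000110003500011400011000340001130000b000330000e1000100003200010300009000310000e50000f000300000f30000f0002f0000f40000a0002e0000840000e0002d0000e30000d0002c0000d20000d0002b0000d1000090002a000097000090002900008700008000280000c50000c)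 (.leaf 0x0)))

/-- the certificate -/
noncomputable def cert : Cert where
  n := 1
  v := 20
  g := 8
  inv := [0, 1, 2, 3, 4, 5, 6, 7]
  rels := [[0, 1, 0, 1], [0, 2, 0, 2], [0, 3, 0, 3], [0, 4, 0, 4], [0, 5, 0, 5], [0, 6, 0, 6, 0, 6], [0, 7, 0, 7], [1, 2, 1, 2], [1, 3, 1, 3], [1, 4, 1, 4], [1, 5, 1, 5, 1, 5], [1, 6, 1, 6], [1, 7, 1, 7, 1, 7], [2, 3, 2, 3], [2, 4, 2, 4], [2, 5, 2, 5, 2, 5], [2, 6, 2, 6, 2, 6], [2, 7, 2, 7, 2, 7], [3, 4, 3, 4], [3, 5, 3, 5, 3, 5], [3, 6, 3, 6, 3, 6], [3, 7, 3, 7, 3, 7], [4, 5, 4, 5, 4, 5], [4, 6, 4, 6, 4, 6], [4, 7, 4, 7, 4, 7], [5, 6, 5, 6], [5, 7, 5, 7, 5, 7], [6, 7, 6, 7], [0, 1, 2, 3, 4], [1, 5, 1, 7, 1, 5, 1, 7, 1, 5, 1, 7], [5, 1, 2, 5, 2, 1, 7, 1, 2, 5, 2, 1, 5, 1, 2, 7, 2, 1], [5, 1, 3, 5, 3, 1, 7, 1, 3, 5, 3, 1, 5, 1, 4, 7, 4, 1], [5, 1, 4, 5, 4, 1, 7, 1, 4, 5, 4, 1, 5, 1, 3, 7, 3, 1]]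
  subs := [[0], [1], [2], [3], [4], [5], [7]]
  tab := tab
  par := par
  fact := fact
  nfact := 65

/-- justifications -/
noncomputable def just0 : List Cert.Just :=
  [.define,
   .loop (some (11, 2)) [.bwd 0, .edge 1, .fwd 0],
   .loop (some (25, 2)) [.bwd 0, .edge 5, .fwd 0],
   .loop (some (27, 1)) [.bwd 0, .edge 7, .fwd 0],
   .define,
   .loop (some (0, 1)) [.bwd 4, .fwd 1, .fwd 4],
   .loop (some (4, 1)) [.bwd 4, .fwd 2, .fwd 4],
   .loop (some (6, 1)) [.bwd 4, .fwd 3, .fwd 4],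
   .define,
   .loop (some (7, 2)) [.bwd 8, .fwd 1, .fwd 8],
   .loop (some (16, 1)) [.bwd 8, .bwd 0, .edge 2, .fwd 0, .fwd 8],
   .define,
   .loop (some (1, 2)) [.bwd 8, .fwd 4, .fwd 11],
   .define,
   .loop (some (28, 4)) [.fwd 4, .fwd 5, .fwd 11, .fwd 13],
   .define,
   .loop (some (28, 3)) [.bwd 15, .bwd 4, .fwd 1, .fwd 8],
   .define,
   .loop (some (8, 2)) [.bwd 17, .fwd 5, .fwd 17],
   .loop (some (18, 1)) [.fwd 16, .bwd 15, .fwd 17],
   .define,
   .loop (some (15, 2)) [.bwd 20, .bwd 8, .fwd 2, .fwd 8, .fwd 20],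
   .loop (some (25, 1)) [.bwd 20, .fwd 10, .fwd 20],
   .define,
   .loop (some (4, 2)) [.bwd 20, .bwd 12, .fwd 23],
   .loop (some (15, 2)) [.bwd 23, .bwd 11, .fwd 6, .fwd 11, .fwd 23],
   .define,
   .loop (some (19, 2)) [.bwd 26, .bwd 17, .fwd 6, .fwd 17, .fwd 26],
   .define,
   .loop (some (22, 2)) [.bwd 28, .fwd 14, .fwd 2, .bwd 14, .fwd 28],
   .define,
   .loop (some (7, 1)) [.bwd 30, .fwd 21, .fwd 30],
   .loop (some (10, 1)) [.bwd 30, .bwd 20, .fwd 9, .fwd 20, .fwd 30],
   .loop (some (30, 6)) [.fwd 30, .fwd 31, .fwd 32, .fwd 31, .bwd 30, .bwd 20, .fwd 9, .bwd 8, .fwd 3, .fwd 8, .fwd 9, .fwd 20, .fwd 30, .fwd 31, .fwd 32, .fwd 31, .bwd 30],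
   .loop (some (6, 3)) [.fwd 24, .fwd 33, .bwd 24],
   .define,
   .loop (some (7, 1)) [.bwd 35, .fwd 25, .fwd 35],
   .define,
   .loop (some (28, 4)) [.bwd 24, .fwd 35, .fwd 36, .fwd 37],
   .define,
   .loop (some (18, 2)) [.bwd 39, .fwd 27, .fwd 39],
   .loop (some (22, 1)) [.fwd 38, .bwd 20, .bwd 19, .fwd 26, .fwd 39],
   .define,
   .loop (some (8, 2)) [.bwd 37, .bwd 35, .fwd 42],
   .define,
   .loop (some (18, 1)) [.bwd 44, .fwd 29, .fwd 44],
   .loop (some (19, 1)) [.bwd 42, .bwd 23, .fwd 13, .fwd 28, .fwd 44],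
   .define,
   .loop (some (10, 1)) [.bwd 47, .bwd 26, .fwd 18, .fwd 26, .fwd 47],
   .loop (some (31, 15)) [.bwd 39, .fwd 47, .fwd 48, .bwd 47, .fwd 27, .bwd 26, .bwd 17, .fwd 5, .fwd 7, .fwd 5, .fwd 17, .fwd 26, .fwd 27, .fwd 47, .fwd 48, .bwd 47, .fwd 39],
   .define,
   .define,
   .loop (some (10, 2)) [.fwd 46, .fwd 43, .bwd 41, .fwd 50, .fwd 51],
   .loop (some (31, 15)) [.fwd 45, .bwd 52, .bwd 51, .bwd 50, .fwd 40, .fwd 41, .bwd 37, .bwd 35, .fwd 34, .fwd 35, .fwd 37, .bwd 41, .fwd 40, .fwd 50, .fwd 51, .fwd 52, .fwd 45],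
   .loop (some (29, 0)) [.bwd 52, .bwd 51, .bwd 50, .fwd 49, .fwd 50, .fwd 51, .fwd 52, .fwd 53, .bwd 52, .bwd 51, .bwd 50, .fwd 49],
   .loop none [.bwd 54],
   .loop none [.fwd 44, .bwd 55, .fwd 40],
   .loop none [.fwd 56],
   .loop none [.bwd 41, .bwd 57, .bwd 28],
   .loop none [.bwd 58],
   .loop none [.bwd 38, .bwd 59, .fwd 14],
   .loop none [.bwd 60],
   .loop none [.fwd 61, .bwd 22, .bwd 61, .bwd 0],
   .loop none [.bwd 62],
   .loop none [.fwd 0, .bwd 63]]

/-- justifications -/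
noncomputable def justs : List Cert.Just := just0

end CfsgLib.ThreeTransp.SolvLocal.Cert.F5Swap
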