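import Cfsg.Agent.Lib.PresCert.Check

/-!
Coset table certificate (generated data).
-/

namespace CfsgLib.ThreeTransp.SolvLocal.Cert.FLine

open CfsgLib.PresCert

noncomputable def tab : BTree := (.node (.node (.leaf 0x1000030000100100040003800020000010000280000000001000140000f000001000110000e0000010000b8000c0000010000680009000000000120000f00000100002000000000010000e8000d000001000098000b00000100005800080000000000f8000e0000000000d0000d0000010000180000000001000078000a00000100004800070000000000b0000c000000000090000b000000000070000a000001000010000000000100003800060000000000600009000000000050000800000000004000070000000000300006000001000008000000000000002800050000000000200004000000000018000300000000001000020000000000080001) (.leaf 0x100012000040010124001400005001010400138000600100c4001300007001006400128000a0000010000f800030010124001180006001010400110000500100c4001080008001006400100000b0020144000f000060000010000d0000300100e4000e8000400100a4000e000090010044000d8000c0000010000b00002)) (.node (.leaf 0x10124000c800070010104000c0000800100c4000b800050000010000d8000d0020144000a80007000001000090000200100e4000a0000900100a4000980004000001000100000e0000010000880008001814400080000900000100007000020010084000780003000001000128000f0000010000600001000001000080000a0000010000a0000b0000010000e0000d0010064000680005001812400088000a00000100005000010000010000c0000c000001000108000e00100440005800040000010000a8000b0000010000c8000c0000010000400001000001000130000f00100240004800030000010000f0000d000001000118000e000001000138000f)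 (.leaf 0x0)))

noncomputable def par : BTree := (.leaf 0x400004000000000040000300000000003000030000000000400002000000000030000200000000002000020000000000400001000000000030000100000000002000010000000000100001000000000040000000000000003000000000000000200000000000000010000000000000000000000000000000000000)

noncomputable def fact : BTree := (.leaf 0x0)

/-- the certificate -/
noncomputable def cert : Cert where
  n := 16
  v := 0
  g := 5
  inv := [0, 1, 2, 3, 4]
  rels := [[0, 1, 0, 1], [0, 2, 0, 2], [0, 3, 0, 3], [0, 4, 0, 4], [1, 2, 1, 2], [1, 3, 1, 3], [1, 4, 1, 4], [2, 3, 2, 3], [2, 4, 2, 4], [3, 4, 3, 4], [0, 1, 2, 3, 4]]
  subs := []
  tab := tab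
  par := par
  fact := fact
  nfact := 0

/-- justifications -/
noncomputable def justs : List Cert.Just := []

end CfsgLib.ThreeTransp.SolvLocal.Cert.FLine
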